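import Cfsg.Agent.Characters.Core
import Cfsg.Agent.Characters.SplittingField

/-!
# Schur orthogonality for matrix entries over a subfield of `ℂ`

`same`: for a representation `ρ` over `K` whose character is an irreducible complex character,
`∑ g, R(g⁻¹) a b * R(g) c d = |G| / n` if `a = d` and `b = c`, and `0` otherwise.
`diff`: for two different irreducible complex characters the sum is `0`.
-/

set_option autoImplicit false

open Cfsg

namespace Cfsg.Agent.H232.Schur

open Cfsg.Agent.Characters Representation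

universe u v

section complex

variable {G : Type u} [Group G] [Fintype G] {n m : ℕ}

/-- the averaged matrix -/
noncomputable def avg (ρ : Representation ℂ G (Fin n → ℂ)) (σ : Representation ℂ G (Fin m → ℂ))
    (A : Matrix (Fin n) (Fin m) ℂ) : Matrix (Fin n) (Fin m) ℂ :=
  ∑ g : G, LinearMap.toMatrix' (ρ g⁻¹) * A * LinearMap.toMatrix' (σ g)

theorem avg_single (ρ : Representation ℂ G (Fin n → ℂ)) (σ : Representation ℂ G (Fin m → ℂ))
    (a b : Fin n) (c d : Fin m) :
    avg ρ σ (Matrix.single b c 1) a d =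
      ∑ g, LinearMap.toMatrix' (ρ g⁻¹) a b * LinearMap.toMatrix' (σ g) c d := by
  classical
  unfold avg
  rw [Matrix.sum_apply]
  refine Finset.sum_congr rfl fun g _ => ?_
  rw [Matrix.mul_apply, Finset.sum_eq_single c]
  · rw [Matrix.mul_single_apply_same, mul_one]
  · intro j _ hj
    rw [Matrix.mul_single_apply_of_ne _ _ _ _ _ hj, zero_mul]
  · intro h
    exact absurd (Finset.mem_univ c) h

theorem avg_comm (ρ : Representation ℂ G (Fin n → ℂ)) (σ : Representation ℂ G (Fin m → ℂ))
    (A : Matrix (Fin n) (Fin m) ℂ) (h : G) :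
    avg ρ σ A * LinearMap.toMatrix' (σ h) = LinearMap.toMatrix' (ρ h) * avg ρ σ A := by
  unfold avg
  rw [Matrix.sum_mul, Matrix.mul_sum]
  refine Fintype.sum_equiv (Equiv.mulRight h) _ _ fun g => ?_
  rw [Equiv.coe_mulRight]
  have h1 : LinearMap.toMatrix' (ρ h) * LinearMap.toMatrix' (ρ (g * h)⁻¹) = LinearMap.toMatrix' (ρ g⁻¹) := by
    rw [← LinearMap.toMatrix'_mul, ← map_mul]
    congr 2
    group
  have h2 : LinearMap.toMatrix' (σ (g * h)) = LinearMap.toMatrix' (σ g) * LinearMap.toMatrix' (σ h) := by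
    rw [← LinearMap.toMatrix'_mul, ← map_mul]
  rw [h2, ← Matrix.mul_assoc, ← Matrix.mul_assoc, ← Matrix.mul_assoc, h1]

/-- the averaged matrix as an intertwining map -/
noncomputable def inter (ρ : Representation ℂ G (Fin n → ℂ)) (σ : Representation ℂ G (Fin m → ℂ))
    (A : Matrix (Fin n) (Fin m) ℂ) : IntertwiningMap σ ρ :=
  LinearMap.intertwiningMap_of_isIntertwiningMap σ ρ (Matrix.toLin' (avg ρ σ A)) (by
    intro g v
    have h1 := congrArg (fun M => Matrix.toLin' M v) (avg_comm ρ σ A g)
    simpa only [Matrix.toLin'_mul, LinearMap.comp_apply, Matrix.toLin'_toMatrix'] using h1)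

theorem diff_C {χ ψ : G → ℂ} (hχ : IsIrrCharacter G χ) (hψ : IsIrrCharacter G ψ) (hne : χ ≠ ψ)
    (ρ : Representation ℂ G (Fin n → ℂ)) (σ : Representation ℂ G (Fin m → ℂ))
    (hρ : ρ.character = χ) (hσ : σ.character = ψ) (a b : Fin n) (c d : Fin m) :
    ∑ g, LinearMap.toMatrix' (ρ g⁻¹) a b * LinearMap.toMatrix' (σ g) c d = 0 := by
  have h1 : ρ.IsIrreducible := Core.isIrreducible_of_isIrrCharacter ρ (hρ ▸ hχ)
  have h2 : σ.IsIrreducible := Core.isIrreducible_of_isIrrCharacter σ (hσ ▸ hψ)
  have : IsEmpty (Representation.Equiv σ ρ) := ⟨fun e => hne (by rw [← hρ, ← hσ]; exact (char_iso e).symm)⟩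
  rw [← avg_single]
  have h3 : inter ρ σ (Matrix.single b c 1) = 0 := Subsingleton.elim _ _
  have h4 : Matrix.toLin' (avg ρ σ (Matrix.single b c 1)) = 0 := congrArg IntertwiningMap.toLinearMap h3
  have h5 : avg ρ σ (Matrix.single b c 1) = 0 := by
    rwa [LinearEquiv.map_eq_zero_iff] at h4
  rw [h5]
  rfl

theorem same_C {χ : G → ℂ} (hχ : IsIrrCharacter G χ) (ρ : Representation ℂ G (Fin n → ℂ))
    (hρ : ρ.character = χ) (a b c d : Fin n) :
    ∑ g, LinearMap.toMatrix' (ρ g⁻¹) a b * LinearMap.toMatrix' (ρ g) c d =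
      if a = d ∧ b = c then (Nat.card G : ℂ) / n else 0 := by
  classical
  have h1 : ρ.IsIrreducible := Core.isIrreducible_of_isIrrCharacter ρ (hρ ▸ hχ)
  rw [← avg_single]
  obtain ⟨k, hk⟩ := (IsIrreducible.algebraMap_intertwiningMap_bijective_of_isAlgClosed
    (ρ := ρ)).2 (inter ρ ρ (Matrix.single b c 1))
  have h4 : Matrix.toLin' (avg ρ ρ (Matrix.single b c 1)) = k • (1 : Module.End ℂ (Fin n → ℂ)) :=
    (congrArg IntertwiningMap.toLinearMap hk).symm
  have h5 : avg ρ ρ (Matrix.single b c 1) = k • (1 : Matrix (Fin n) (Fin n) ℂ) := by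
    have h6 := congrArg LinearMap.toMatrix' h4
    rwa [LinearMap.toMatrix'_toLin', map_smul, LinearMap.toMatrix'_one] at h6
  have h6 : (n : ℂ) * k = (Nat.card G : ℂ) * (Matrix.single b c (1 : ℂ)).trace := by
    have h7 := congrArg Matrix.trace h5
    rw [Matrix.trace_smul, Matrix.trace_one, Fintype.card_fin, smul_eq_mul, avg, Matrix.trace_sum] at h7
    rw [mul_comm, ← h7]
    have h8 : ∀ g : G, (LinearMap.toMatrix' (ρ g⁻¹) * Matrix.single b c 1 * LinearMap.toMatrix' (ρ g)).trace =
        (Matrix.single b c (1 : ℂ)).trace := by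
      intro g
      rw [Matrix.trace_mul_comm, ← mul_assoc, ← LinearMap.toMatrix'_mul, ← map_mul, mul_inv_cancel, map_one,
        LinearMap.toMatrix'_one, one_mul]
    rw [Finset.sum_congr rfl fun g _ => h8 g, Finset.sum_const, Finset.card_univ, nsmul_eq_mul,
      Nat.card_eq_fintype_card]
  have hn : (n : ℂ) ≠ 0 := by
    have h7 : n ≠ 0 := by
      rintro rfl
      exact a.elim0
    exact Nat.cast_ne_zero.2 h7
  have h7 : (Matrix.single b c (1 : ℂ)).trace = if b = c then 1 else 0 := by
    split_ifs with h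
    · subst h
      rw [Matrix.trace_single_eq_same]
    · rw [Matrix.trace_single_eq_of_ne _ _ _ h]
  rw [h7] at h6
  have h8 : k = if b = c then (Nat.card G : ℂ) / n else 0 := by
    split_ifs with h
    · rw [if_pos h, mul_one] at h6
      rw [eq_div_iff hn, mul_comm, h6]
    · rw [if_neg h, mul_zero] at h6
      exact (mul_eq_zero.1 h6).resolve_left hn
  rw [h5, Matrix.smul_apply, smul_eq_mul, Matrix.one_apply, h8]
  by_cases h : a = d <;> by_cases h' : b = c <;> simp [h, h']

end complex

section field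

variable {G : Type u} [Group G] [Fintype G] {n m : ℕ} {K : Type v} [Field K] [Algebra K ℂ]

theorem diff {χ ψ : G → ℂ} (hχ : IsIrrCharacter G χ) (hψ : IsIrrCharacter G ψ) (hne : χ ≠ ψ)
    (ρ : Representation K G (Fin n → K)) (σ : Representation K G (Fin m → K))
    (hρ : ∀ g, algebraMap K ℂ (ρ.character g) = χ g) (hσ : ∀ g, algebraMap K ℂ (σ.character g) = ψ g)
    (a b : Fin n) (c d : Fin m) :
    ∑ g, LinearMap.toMatrix' (ρ g⁻¹) a b * LinearMap.toMatrix' (σ g) c d = 0 := by
  have h1 := diff_C hχ hψ hne (SplittingField.baseChange ρ) (SplittingField.baseChange σ)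
    (by funext g; rw [SplittingField.baseChange_character, hρ])
    (by funext g; rw [SplittingField.baseChange_character, hσ]) a b c d
  apply (algebraMap K ℂ).injective
  rw [map_zero, map_sum, ← h1]
  refine Finset.sum_congr rfl fun g _ => ?_
  rw [SplittingField.baseChange_toMatrix, SplittingField.baseChange_toMatrix, Matrix.map_apply, Matrix.map_apply,
    map_mul]

theorem same {χ : G → ℂ} (hχ : IsIrrCharacter G χ) (ρ : Representation K G (Fin n → K))
    (hρ : ∀ g, algebraMap K ℂ (ρ.character g) = χ g) (a b c d : Fin n) :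
    ∑ g, LinearMap.toMatrix' (ρ g⁻¹) a b * LinearMap.toMatrix' (ρ g) c d =
      if a = d ∧ b = c then (Nat.card G : K) / n else 0 := by
  have h1 := same_C hχ (SplittingField.baseChange ρ)
    (by funext g; rw [SplittingField.baseChange_character, hρ]) a b c d
  apply (algebraMap K ℂ).injective
  rw [map_sum]
  have h2 : algebraMap K ℂ (if a = d ∧ b = c then (Nat.card G : K) / n else 0) =
      if a = d ∧ b = c then (Nat.card G : ℂ) / n else 0 := by
    split_ifs
    · rw [map_div₀, map_natCast, map_natCast]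
    · rw [map_zero]
  rw [h2, ← h1]
  refine Finset.sum_congr rfl fun g _ => ?_
  rw [SplittingField.baseChange_toMatrix, SplittingField.baseChange_toMatrix, Matrix.map_apply, Matrix.map_apply,
    map_mul]

end field

end Cfsg.Agent.H232.Schur
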